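import Mathlib
import Cfsg.Agent.CpAutHNFive.Main
import Cfsg.Agent.HN.Classes

/-!
# In `H0 = 2.HS.2` no element of order 5 centralizes a subgroup of order divisible by 9 (helper443)
-/

set_option autoImplicit false
set_option maxRecDepth 100000

namespace Cfsg.Agent.H443.NHHN

open Cfsg.Agent.HN.Pres Cfsg.Agent.HN.HS100 Cfsg.Agent.HN.P1408 Cfsg.Agent.HN.H0Basic
open Cfsg.Agent.CpAutHNFive.HTab Cfsg.Agent.CpAutHNFive.HFacts
open Cfsg.Agent.HN.Classes (t1 φ_hw_apply)
open Cfsg.Agent.CpAutHNFive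
open Subgroup

/-- a permutation of order dividing 5 preserving a set of fewer than 5 points fixes them -/
theorem fix_of_small {α : Type*} [DecidableEq α] (p : Equiv.Perm α) (hp : p ^ 5 = 1) (S : Finset α) (hS : S.card < 5)
    (hmap : ∀ a ∈ S, p a ∈ S) {a : α} (ha : a ∈ S) : p a = a := by
  have h1 : ∀ n : ℕ, (p ^ n) a ∈ S := by
    intro n
    induction n with
    | zero => exact ha
    | succ n ih => rw [pow_succ', Equiv.Perm.mul_apply]; exact hmap _ ih
  obtain ⟨i, hi, j, hj, hij, h2⟩ := Finset.exists_ne_map_eq_of_card_lt_of_maps_to (s := Finset.range 5) (t := S)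
    (by rw [Finset.card_range]; exact hS) (f := fun n => (p ^ n) a) (fun n _ => h1 n)
  have key : ∀ n : ℕ, 0 < n → n < 5 → (p ^ n) a = a → p a = a := by
    intro n h0 h5 hn
    have hk : ∀ k : ℕ, ((p ^ n) ^ k) a = a := by
      intro k
      induction k with
      | zero => rfl
      | succ k ih => rw [pow_succ', Equiv.Perm.mul_apply, ih, hn]
    have hq : ∀ m q : ℕ, n * m = 5 * q + 1 → p a = a := by
      intro m q h
      have h3 := hk m
      rwa [← pow_mul, h, pow_add, pow_mul, hp, one_pow, one_mul, pow_one] at h3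
    interval_cases n
    · exact hq 1 0 (by norm_num)
    · exact hq 3 1 (by norm_num)
    · exact hq 2 1 (by norm_num)
    · exact hq 4 3 (by norm_num)
  rw [Finset.mem_range] at hi hj
  have h3 : ∀ i j : ℕ, i < j → (p ^ i) a = (p ^ j) a → (p ^ (j - i)) a = a := by
    intro i j hij h
    have h4 : (p ^ j) a = (p ^ i) ((p ^ (j - i)) a) := by
      rw [← Equiv.Perm.mul_apply, ← pow_add]; congr 2; omega
    rw [h4] at h
    exact ((p ^ i).injective h).symm
  rcases lt_or_gt_of_ne hij with h | h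
  · exact key (j - i) (by omega) (by omega) (h3 i j h h2)
  · exact key (i - j) (by omega) (by omega) (h3 j i h h2.symm)

/-- first generator of a Sylow 3-subgroup -/
def b1 : List ℕ := [2, 2]
/-- second generator of a Sylow 3-subgroup -/
def b2 : List ℕ := [4, 2, 2, 4, 3, 3, 4, 2, 2, 4, 2, 2, 4, 3, 3, 4]

theorem b_comm : hw b1 * hw b2 = hw b2 * hw b1 := comm_of (by decide +kernel)
theorem b1_three : hw b1 ^ 3 = 1 := pow_one_of (by decide +kernel)
theorem b2_three : hw b2 ^ 3 = 1 := pow_one_of (by decide +kernel)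

theorem fix4 : ∀ i : Fin 100, t1 b1 i = i → t1 b2 i = i → i ∈ ({63, 95, 97, 98} : Finset (Fin 100)) := by
  decide +kernel

theorem fix_63 : t1 b1 63 = 63 ∧ t1 b2 63 = 63 := by decide +kernel

theorem no_fix1 : ∀ i : Fin 100, t1 w1 i ≠ i := by decide +kernel
theorem no_fix2 : ∀ i : Fin 100, t1 w2 i ≠ i := by decide +kernel

theorem b1_ne : hw b1 ≠ 1 := by
  rw [← hw_nil]
  exact hw_ne (p := 3) (by decide +kernel) (by decide) (by norm_num) (by decide +kernel)
theorem b2_ne : hw b2 ≠ 1 := by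
  rw [← hw_nil]
  exact hw_ne (p := 3) (by decide +kernel) (by decide) (by norm_num) (by decide +kernel)

theorem b1_order : orderOf (hw b1) = 3 := by
  have : Fact (Nat.Prime 3) := ⟨Nat.prime_three⟩
  exact orderOf_eq_prime b1_three b1_ne
theorem b2_order : orderOf (hw b2) = 3 := by
  have : Fact (Nat.Prime 3) := ⟨Nat.prime_three⟩
  exact orderOf_eq_prime b2_three b2_ne

theorem b1_not_mem : hw b1 ∉ zpowers (hw b2) := by
  intro h
  obtain ⟨k, hk, h1⟩ := mem_zpowers_lt (by norm_num) b2_three h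
  rw [← hw_rp] at h1
  have key : ∀ k < 3, tr b1 7 ≠ tr (rp k b2) 7 := by decide +kernel
  have ok : ∀ k < 3, okw (rp k b2) = true := by decide +kernel
  have ok1 : okw b1 = true := by decide +kernel
  exact hw_ne ok1 (ok k hk) (by norm_num) (key k hk) h1

/-- a 3-subgroup of order divisible by 9 is a Sylow subgroup -/
theorem sylow_of_nine {Q : Subgroup H0} (hQ : IsPGroup 3 Q) (h9 : 9 ∣ Nat.card Q) : ∃ P : Sylow 3 H0, (P : Subgroup H0) = Q := by
  have : Fact (Nat.Prime 3) := ⟨Nat.prime_three⟩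
  obtain ⟨P, hP⟩ := hQ.exists_le_sylow
  refine ⟨P, (eq_of_le_of_card_ge hP ?_).symm⟩
  obtain ⟨n, hn⟩ := IsPGroup.iff_card.1 P.2
  have h1 : Nat.card (P : Subgroup H0) ∣ 177408000 := Cfsg.Agent.HN.H0Basic.card_H0 ▸ card_subgroup_dvd_card _
  rw [hn] at h1 ⊢
  have h2 : n < 3 := by
    by_contra h3
    have h4 : 3 ^ 3 ∣ 177408000 := (Nat.pow_dvd_pow 3 (not_lt.1 h3)).trans h1
    norm_num at h4
  calc 3 ^ n ≤ 3 ^ 2 := Nat.pow_le_pow_right (by norm_num) (by omega)
    _ = 9 := by norm_num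
    _ ≤ Nat.card Q := Nat.le_of_dvd Nat.card_pos h9

/-- the Sylow 3-subgroup -/
theorem exists_std : ∃ P : Sylow 3 H0, hw b1 ∈ (P : Subgroup H0) ∧ hw b2 ∈ (P : Subgroup H0) := by
  have : Fact (Nat.Prime 3) := ⟨Nat.prime_three⟩
  set K : Subgroup H0 := zpowers (hw b1) ⊔ zpowers (hw b2) with hK
  have hm1 : hw b1 ∈ K := (le_sup_left : _ ≤ K) (mem_zpowers _)
  have hm2 : hw b2 ∈ K := (le_sup_right : _ ≤ K) (mem_zpowers _)
  have hp : IsPGroup 3 K := by
    refine IsPGroup.to_sup_of_normal_right' (IsPGroup.of_card (n := 1) (by rw [Nat.card_zpowers, b1_order]; rfl))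
      (IsPGroup.of_card (n := 1) (by rw [Nat.card_zpowers, b2_order]; rfl)) ?_
    rw [zpowers_le, mem_normalizer_iff]
    intro g
    have key : ∀ i : ℤ, hw b1 * hw b2 ^ i * (hw b1)⁻¹ = hw b2 ^ i := fun i => by
      rw [((show Commute (hw b1) (hw b2) from b_comm).zpow_right i).eq, mul_inv_cancel_right]
    constructor
    · rintro ⟨i, rfl⟩
      exact ⟨i, (key i).symm⟩
    · rintro ⟨i, hi⟩
      exact ⟨i, mul_left_cancel (mul_right_cancel ((key i).trans hi))⟩
  have h9 : 9 ∣ Nat.card K := by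
    have h1 : orderOf (⟨hw b1, hm1⟩ : K) = 3 := by rw [← Subgroup.orderOf_coe]; exact b1_order
    have h2 : orderOf (⟨hw b2, hm2⟩ : K) = 3 := by rw [← Subgroup.orderOf_coe]; exact b2_order
    have h3 := mul_order_dvd (C := K) (a := ⟨hw b1, hm1⟩) (b := ⟨hw b2, hm2⟩) (Subtype.ext b_comm)
      (inf_eq_bot_of_prime Nat.prime_three h1 fun h => by
        obtain ⟨i, hi⟩ := mem_zpowers_iff.1 h
        exact b1_not_mem (mem_zpowers_iff.2 ⟨i, congrArg Subtype.val hi⟩))
    rwa [h1, h2] at h3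
  obtain ⟨P, hP⟩ := sylow_of_nine hp h9
  exact ⟨P, by rw [hP]; exact hm1, by rw [hP]; exact hm2⟩

/-- **No element of order 5 of `2.HS.2` centralizes a subgroup of order divisible by 9.** -/
theorem nine_five {z : H0} (hz : orderOf z = 5) (B : Subgroup H0) (hB : 9 ∣ Nat.card B)
    (h : ∀ b ∈ B, b * z = z * b) : False := by
  have : Fact (Nat.Prime 3) := ⟨Nat.prime_three⟩
  -- a Sylow 3-subgroup of `B`
  obtain ⟨Q, hQc⟩ := Sylow.exists_subgroup_card_pow_prime (G := B) 3 (n := 2) (by norm_num; exact hB)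
  set Q' : Subgroup H0 := Q.map B.subtype with hQ'
  have hQ'c : Nat.card Q' = 9 := by
    rw [hQ', ← Nat.card_congr (Q.equivMapOfInjective B.subtype B.subtype_injective).toEquiv, hQc]; norm_num
  obtain ⟨P, hP⟩ := sylow_of_nine (Q := Q') (IsPGroup.of_card (n := 2) (by rw [hQ'c]; norm_num)) (by rw [hQ'c])
  obtain ⟨P0, hP1, hP2⟩ := exists_std
  obtain ⟨g, hg⟩ := MulAction.exists_smul_eq H0 P P0
  have hcomm : ∀ b ∈ (P0 : Subgroup H0), b * (g * z * g⁻¹) = g * z * g⁻¹ * b := by
    intro b hb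
    rw [← hg, Sylow.coe_subgroup_smul] at hb
    obtain ⟨c, hc, rfl⟩ := hb
    have hc1 : c ∈ (P : Subgroup H0) := hc
    rw [hP] at hc1
    obtain ⟨d, hd, rfl⟩ := hc1
    have h1 := h _ d.2
    show g * (d : H0) * g⁻¹ * (g * z * g⁻¹) = g * z * g⁻¹ * (g * (d : H0) * g⁻¹)
    calc g * (d : H0) * g⁻¹ * (g * z * g⁻¹) = g * ((d : H0) * z) * g⁻¹ := by group
      _ = g * (z * (d : H0)) * g⁻¹ := by rw [h1]
      _ = _ := by group
  have hc1 := hcomm _ hP1
  have hc2 := hcomm _ hP2
  obtain ⟨u, m, hm, hm5, w, hw', hu⟩ := five_conj hz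
  have hwo : orderOf (hw w) = 5 := by
    rcases hw' with rfl | rfl | rfl
    · exact order_w1
    · exact order_w2
    · exact order_w3
  by_cases hw3 : w = w3
  · -- the centralizer has order 100
    subst hw3
    have hcard : Nat.card ↥(centralizer ({z} : Set H0)) = 100 := by
      obtain ⟨e⟩ := TauFive.cequiv_pow (x := hw w3) (y := z) hwo (g := u⁻¹) (m := m) hm hm5 (by rw [← hu]; group)
      rw [← Nat.card_congr e.toEquiv]
      exact card_three
    have h1 : B ≤ centralizer ({z} : Set H0) := fun b hb => mem_centralizer_singleton_iff.2 (h b hb)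
    have h2 := hB.trans (card_dvd_of_le h1)
    rw [hcard] at h2
    norm_num at h2
  · -- fixed points
    set z' := g * z * g⁻¹ with hz'
    have hz5 : z' ^ 5 = 1 := by rw [hz', conj_pow, ← hz, pow_orderOf_eq_one, mul_one, mul_inv_cancel]
    let S : Finset (Fin 100) := Finset.univ.filter fun i => t1 b1 i = i ∧ t1 b2 i = i
    have hS4 : S.card < 5 := by
      refine lt_of_le_of_lt (Finset.card_le_card (t := ({63, 95, 97, 98} : Finset (Fin 100))) ?_) (by decide)
      intro i hi
      rw [Finset.mem_filter] at hi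
      exact fix4 i hi.2.1 hi.2.2
    have hmemS : ∀ i : Fin 100, i ∈ S ↔ φ (hw b1) i = i ∧ φ (hw b2) i = i := by
      intro i
      rw [Finset.mem_filter, Fin.ext_iff, Fin.ext_iff, φ_hw_apply, φ_hw_apply]
      exact ⟨fun h => h.2, fun h => ⟨Finset.mem_univ _, h⟩⟩
    have hmap : ∀ i ∈ S, φ z' i ∈ S := by
      intro i hi
      rw [hmemS] at hi ⊢
      have key : ∀ b : H0, b * z' = z' * b → φ b i = i → φ b (φ z' i) = φ z' i := by
        intro b hb h1
        rw [← Equiv.Perm.mul_apply, ← map_mul, hb, map_mul, Equiv.Perm.mul_apply, h1]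
      exact ⟨key _ hc1 hi.1, key _ hc2 hi.2⟩
    have h63 : (63 : Fin 100) ∈ S := Finset.mem_filter.2 ⟨Finset.mem_univ _, fix_63⟩
    have hfix := fix_of_small (φ z') (by rw [← map_pow, hz5, map_one]) S hS4 hmap h63
    -- `hw w` fixes a point
    obtain ⟨k, hk⟩ : ∃ k : ℕ, (hw w ^ m) ^ k = hw w := by
      have hx5 : hw w ^ 5 = 1 := by rw [← hwo, pow_orderOf_eq_one]
      have key : ∀ n q : ℕ, m * n = 5 * q + 1 → (hw w ^ m) ^ n = hw w := by
        intro n q hq
        rw [← pow_mul, hq, pow_add, pow_mul, hx5, one_pow, one_mul, pow_one]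
      interval_cases m
      · exact ⟨1, key 1 0 (by norm_num)⟩
      · exact ⟨3, key 3 1 (by norm_num)⟩
      · exact ⟨2, key 2 1 (by norm_num)⟩
      · exact ⟨4, key 4 3 (by norm_num)⟩
    have hzz : hw w ^ m = (u * g⁻¹) * z' * (u * g⁻¹)⁻¹ := by rw [← hu, hz']; group
    set p : Fin 100 := φ (u * g⁻¹) 63 with hp
    have h1 : φ (hw w ^ m) p = p := by
      rw [hzz, hp, ← Equiv.Perm.mul_apply, ← map_mul, inv_mul_cancel_right, map_mul, Equiv.Perm.mul_apply, hfix]
    have h2 : φ (hw w) p = p := by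
      rw [← hk, map_pow]
      generalize φ (hw w ^ m) = q at h1
      induction k with
      | zero => rfl
      | succ k ih => 
        clear hk
        rw [pow_succ', Equiv.Perm.mul_apply]
        have : (q ^ k) p = p := by
          clear ih
          induction k with
          | zero => rfl
          | succ k ih => rw [pow_succ', Equiv.Perm.mul_apply, ih, h1]
        rw [this, h1]
    have h3 : t1 w p = p := by
      rw [← φ_hw_apply, h2]
    rcases hw' with rfl | rfl | rfl
    · exact no_fix1 p h3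
    · exact no_fix2 p h3
    · exact hw3 rfl

end Cfsg.Agent.H443.NHHN
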