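import Mathlib
import Cfsg.Agent.H241.NHTools
import Cfsg.Agent.H149.Sp.Engine

/-!
# Tools for the sporadic rows of the nilpotent Hall cluster (helper443)

* `nc_of_fix_small` : `q`-elements with few fixed points;
* `nc_single` : the order of the centralizer of an element of prime order `s` (Sylow's congruence, Burnside's transfer),
  for a prime `s` not adjacent to 2.
-/

set_option autoImplicit false

namespace Cfsg.Agent.H443.NHHN

open Cfsg.Agent.H241.NH Cfsg.Agent.H393.Iso Cfsg.Agent.H163.PG
open Cfsg.Agent.H149.Sp.Eng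
open Subgroup

universe u

/-- **Few fixed points.**  An element of order `q` fixes `a` and at most `N` points, the `p`-part of the stabilizer of `a`
is at most `p ^ s`, and `N * p ^ s < |X|_p`. -/
theorem nc_of_fix_small {X : Type u} [Group X] [Finite X] {p q : ℕ} (hp : p.Prime) (hpq : p ≠ q) {Ω : Type*} [Finite Ω]
    [MulAction X Ω] {x : X} (hx : ∃ k : ℕ, orderOf x = q ^ k) {a : Ω} (ha : x • a = a) {N n s : ℕ}
    (hN : Nat.card (MulAction.fixedBy Ω x) ≤ N) (hn : p ^ n ∣ Nat.card X)
    (hs : ¬ p ^ (s + 1) ∣ Nat.card (MulAction.stabilizer X a)) (hlt : N * p ^ s < p ^ n) : NC p q X := by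
  intro hc
  have : Fact p.Prime := ⟨hp⟩
  have h1 : ¬ p ∣ (centralizer ({x} : Set X)).index := hc q (by simp) p (by simp) hpq.symm x hx
  obtain ⟨P, hP⟩ := H630.CLib.exists_sylow_le p _ h1
  have hPn : p ^ n ≤ Nat.card (P : Subgroup X) := Nat.le_of_dvd Nat.card_pos (P.pow_dvd_card_of_pow_dvd_card hn)
  -- the orbit
  have horb : ∀ b ∈ MulAction.orbit (P : Subgroup X) a, b ∈ MulAction.fixedBy Ω x := by
    rintro _ ⟨g, rfl⟩
    have h2 : (g : X) * x = x * g := mem_centralizer_singleton_iff.1 (hP g.2)
    rw [MulAction.mem_fixedBy]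
    show x • ((g : X) • a) = (g : X) • a
    rw [smul_smul, ← h2, mul_smul, ha]
  have h3 : Nat.card (MulAction.orbit (P : Subgroup X) a) ≤ N :=
    (Nat.card_mono (Set.toFinite _) horb).trans hN
  have h4 : Nat.card (MulAction.orbit (P : Subgroup X) a) * Nat.card (MulAction.stabilizer (P : Subgroup X) a) =
      Nat.card (P : Subgroup X) := by
    rw [← Nat.card_prod]
    exact Nat.card_congr (MulAction.orbitProdStabilizerEquivGroup (P : Subgroup X) a)
  -- the stabilizer
  set S := MulAction.stabilizer (P : Subgroup X) a with hS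
  have h5 : Nat.card S ≤ p ^ s := by
    have h6 : IsPGroup p S := P.2.to_subgroup S
    obtain ⟨k, hk⟩ := IsPGroup.iff_card.1 h6
    have h7 : Nat.card S ∣ Nat.card (MulAction.stabilizer X a) := by
      let f : S →* MulAction.stabilizer X a :=
        { toFun := fun g => ⟨((g : (P : Subgroup X)) : X), MulAction.mem_stabilizer_iff.2
            (MulAction.mem_stabilizer_iff.1 (show (g : (P : Subgroup X)) ∈ MulAction.stabilizer (P : Subgroup X) a from g.2))⟩
          map_one' := rfl
          map_mul' := fun _ _ => rfl }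
      have hf : Function.Injective f := by
        intro g h hgh
        have h8 : ((g : (P : Subgroup X)) : X) = ((h : (P : Subgroup X)) : X) :=
          congrArg (fun t : MulAction.stabilizer X a => (t : X)) hgh
        exact Subtype.ext (Subtype.ext h8)
      rw [Nat.card_congr (MonoidHom.ofInjective hf).toEquiv]
      exact card_subgroup_dvd_card _
    rw [hk] at h7 ⊢
    refine Nat.pow_le_pow_right hp.pos ?_
    by_contra h8
    exact hs ((Nat.pow_dvd_pow p (by omega)).trans h7)
  have h6 : Nat.card (P : Subgroup X) ≤ N * p ^ s := by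
    rw [← h4]
    exact Nat.mul_le_mul h3 h5
  omega

/-- **The centralizer of an element of prime order `s` not adjacent to 2** has not the full `p`-part. -/
theorem nc_single {G : Type u} [Group G] [Finite G] [IsSimpleGroup G] {s a M p e : ℕ} {L : List (ℕ × ℕ)} {ks kills : List ℕ}
    (hN : Nat.card G = s * M) (hM : M = 2 ^ a * prodL L) (hM1 : 1 < M)
    (hp : ∀ x ∈ (2, a) :: (s, 1) :: L, x.1.Prime)
    (hn : (((2, a) :: (s, 1) :: L).map Prod.fst).Nodup) (ht : p.Prime) (hts : p ≠ s) (he : p ^ e ∣ M) (hks : okKs s ks = true)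
    (hok : okPair M L ks s (fun c => c % p ^ e != 0 || kills.any fun t => c % t == 0) = true)
    (ns : NA s G) (hkill : ∀ t ∈ kills, t.Prime ∧ ¬ Adj G t s) : NC s p G := by
  have hL : Nat.card G = prodL ((2, a) :: (s, 1) :: L) := by
    rw [hN, hM]
    simp only [prodL, List.map_cons, List.prod_cons]
    ring
  have hs : s.Prime := hp (s, 1) (by simp)
  have hsq : ¬ s ^ 2 ∣ Nat.card G := by
    intro hd
    rw [hL] at hd
    obtain ⟨b, hb, hb2⟩ := exists_mem_of_pow_dvd hs (by norm_num) hp hn hd
    simp only [List.map_cons, List.nodup_cons, List.mem_cons, not_or, List.mem_map, not_exists, not_and] at hn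
    simp only [List.mem_cons, Prod.mk.injEq] at hb
    rcases hb with ⟨h1, -⟩ | ⟨-, h1⟩ | h1
    · exact hn.1.1 h1.symm
    · omega
    · exact hn.2.1 (s, b) h1 rfl
  have hne : Nat.card G ≠ s := by
    rw [hN]
    intro h
    have := hs.pos
    nlinarith
  have fs : Fact s.Prime := ⟨hs⟩
  obtain ⟨v, hv⟩ := exists_prime_orderOf_dvd_card' s (show s ∣ Nat.card G by rw [hN]; exact dvd_mul_right _ _)
  obtain ⟨c, k, hc, hcard, hodd, hk, hk1, hi, hadj'⟩ := single hs hsq hne ns hv
  have h1 : c * k * (Nm v).index = M := by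
    have h2 := (Nm v).card_mul_index
    rw [hcard, hN] at h2
    apply Nat.eq_of_mul_eq_mul_left hs.pos
    rw [← h2]
    ring
  have h3 := okPair_spec (fun x hx => hp x (by simp [hx])) hM (by omega) hok hodd (okKs_spec hks hs.one_lt hk hk1) h1 hi
  refine nc_of_card (a := e) ht hts.symm (x := v) ⟨1, by rw [hv, pow_one]⟩ (by rw [hN]; exact he.mul_left s) ?_
  intro h4
  have h5 : p ^ e ∣ c := by
    change p ^ e ∣ Nat.card (Cm v) at h4
    rw [hc] at h4
    exact Nat.Coprime.dvd_of_dvd_mul_left (Nat.Coprime.pow_left e ((Nat.coprime_primes ht hs).2 hts)) h4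
  simp only [Bool.or_eq_true, bne_iff_ne, ne_eq, List.any_eq_true, beq_iff_eq] at h3
  rcases h3 with h3 | ⟨t', ht', htc⟩
  · exact h3 (Nat.mod_eq_zero_of_dvd h5)
  · obtain ⟨h6, h7⟩ := hkill t' ht'
    exact h7 (hadj' t' h6 (Nat.dvd_of_mod_eq_zero htc))

end Cfsg.Agent.H443.NHHN
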