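import Mathlib
import Cfsg.Agent.H443.NHHN.Tools
import Cfsg.Agent.H443.NHHN.ThreeFive
import Cfsg.Agent.H163.PG.HN
import Cfsg.Agent.NotCT.Orders

/-!
# The row of `HN` of the nilpotent Hall cluster (helper443)
-/

set_option autoImplicit false

namespace Cfsg.Agent.H443.NHHN

open Cfsg.Agent.H630.NH Cfsg.Agent.H241.NH Cfsg.Agent.H393.Iso Cfsg.Agent.H163.PG
open Cfsg.Agent.HN.NormalH (H)
open Subgroup

theorem card_cosets : Nat.card (Spor.HN ⧸ H) = 1539000 := H163.PG.HNR.index_H

instance finite_cosets : Finite (Spor.HN ⧸ H) := Nat.finite_of_card_ne_zero (by rw [card_cosets]; norm_num)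

theorem card_stab (a : Spor.HN ⧸ H) : Nat.card (MulAction.stabilizer Spor.HN a) = 177408000 := by
  have h1 : (MulAction.stabilizer Spor.HN a).index = 1539000 := by
    rw [MulAction.index_stabilizer_of_transitive, card_cosets]
  have h2 := (MulAction.stabilizer Spor.HN a).card_mul_index
  rw [h1, Cfsg.Agent.KFacts.HN.Classes.card_HN] at h2
  omega

theorem exists_in_H {p : ℕ} (hp : p.Prime) (hd : p ∣ 177408000) : ∃ x : H, orderOf x = p := by
  have : Fact p.Prime := ⟨hp⟩
  have : Finite H := Nat.finite_of_card_ne_zero (by rw [H163.PG.HNR.card_H]; norm_num)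
  exact exists_prime_orderOf_dvd_card' p (by rw [H163.PG.HNR.card_H]; exact hd)

theorem nc_p_7 {p n s : ℕ} (hp : p.Prime) (hp7 : p ≠ 7) (hn : p ^ n ∣ 273030912000000) (hs : ¬ p ^ (s + 1) ∣ 177408000)
    (hlt : 15 * p ^ s < p ^ n) : NC p 7 Spor.HN := by
  obtain ⟨x, hx⟩ := exists_in_H (p := 7) (by norm_num) (by norm_num)
  have hx' : orderOf (x : Spor.HN) = 7 := by rw [Subgroup.orderOf_coe, hx]
  have h1 : Nat.card (MulAction.fixedBy (Spor.HN ⧸ H) (x : Spor.HN)) = {a : Spor.HN ⧸ H | x • a = a}.ncard := rfl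
  have h2 : Nat.card (MulAction.fixedBy (Spor.HN ⧸ H) (x : Spor.HN)) ≤ 15 := by
    rw [h1]
    rcases H163.PG.HNR.fix_seven hx with h | h <;> rw [h] <;> norm_num
  have h3 : (x : Spor.HN) • ((1 : Spor.HN) : Spor.HN ⧸ H) = ((1 : Spor.HN) : Spor.HN ⧸ H) := by
    rw [MulAction.Quotient.smul_mk, smul_eq_mul, mul_one, QuotientGroup.eq, mul_one]
    exact inv_mem x.2
  exact nc_of_fix_small hp hp7 ⟨1, by rw [hx', pow_one]⟩ h3 h2 (by rw [Cfsg.Agent.KFacts.HN.Classes.card_HN]; exact hn)
    (by rw [card_stab]; exact hs) hlt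

theorem nc_p_11 {p : ℕ} (hp : p.Prime) (hp11 : p ≠ 11) (hn : p ∣ 1539000) : NC p 11 Spor.HN := by
  obtain ⟨x, hx⟩ := exists_in_H (p := 11) (by norm_num) (by norm_num)
  have hx' : orderOf (x : Spor.HN) = 11 := by rw [Subgroup.orderOf_coe, hx]
  have h1 : Nat.card (MulAction.fixedBy (Spor.HN ⧸ H) (x : Spor.HN)) = {a : Spor.HN ⧸ H | x • a = a}.ncard := rfl
  rw [H163.PG.HNR.fix_eleven hx] at h1
  exact nc_of_fix_trans hp hp11 (Ω := Spor.HN ⧸ H) (by rw [card_cosets]; exact hn) ⟨1, by rw [hx', pow_one]⟩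
    (by rw [h1]; exact hp.one_lt.ne' ∘ Nat.dvd_one.1)

theorem nc_19 {p : ℕ} (hp : p = 3 ∨ p = 5) : NC 19 p Spor.HN := by
  have hna : NA 19 Spor.HN := na_hn ⟨MulEquiv.refl _⟩
  have hkill : ∀ t ∈ [7, 11], t.Prime ∧ ¬ Adj Spor.HN t 19 := by
    intro t ht
    simp only [List.mem_cons, List.not_mem_nil, or_false] at ht
    rcases ht with rfl | rfl
    · exact ⟨by norm_num, H163.PG.HNR.not_adj_7_19⟩
    · exact ⟨by norm_num, H163.PG.HNR.not_adj_11_19⟩
  rcases hp with rfl | rfl
  · exact nc_single (s := 19) (a := 14) (M := 14370048000000) (p := 3) (e := 6) (L := [(3, 6), (5, 6), (7, 1), (11, 1)])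
      (ks := [2, 3, 6, 9, 18]) (kills := [7, 11])
      (by rw [Cfsg.Agent.KFacts.HN.Classes.card_HN]) (by norm_num [Cfsg.Agent.H149.Sp.Eng.prodL]) (by norm_num)
      (by intro x hx; simp only [List.mem_cons, List.not_mem_nil, or_false] at hx; rcases hx with rfl | rfl | rfl | rfl | rfl | rfl <;> norm_num)
      (by decide) (by norm_num) (by norm_num) (by norm_num) (by decide) (by decide +kernel) hna hkill
  · exact nc_single (s := 19) (a := 14) (M := 14370048000000) (p := 5) (e := 6) (L := [(3, 6), (5, 6), (7, 1), (11, 1)])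
      (ks := [2, 3, 6, 9, 18]) (kills := [7, 11])
      (by rw [Cfsg.Agent.KFacts.HN.Classes.card_HN]) (by norm_num [Cfsg.Agent.H149.Sp.Eng.prodL]) (by norm_num)
      (by intro x hx; simp only [List.mem_cons, List.not_mem_nil, or_false] at hx; rcases hx with rfl | rfl | rfl | rfl | rfl | rfl <;> norm_num)
      (by decide) (by norm_num) (by norm_num) (by norm_num) (by decide) (by decide +kernel) hna hkill

theorem nc_all : ∀ p ∈ [3, 5], ∀ q ∈ [3, 5, 7, 11, 19], p ≠ q → NC p q Spor.HN := by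
  intro p hp q hq hpq
  simp only [List.mem_cons, List.not_mem_nil, or_false] at hp hq
  rcases hp with rfl | rfl
  · rcases hq with rfl | rfl | rfl | rfl | rfl
    · exact absurd rfl hpq
    · exact nc_35
    · exact nc_p_7 (n := 6) (s := 2) (by norm_num) (by norm_num) (by norm_num) (by norm_num) (by norm_num)
    · exact nc_p_11 (by norm_num) (by norm_num) (by norm_num)
    · exact (nc_19 (Or.inl rfl)).symm
  · rcases hq with rfl | rfl | rfl | rfl | rfl
    · exact nc_35.symm
    · exact absurd rfl hpq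
    · exact nc_p_7 (n := 6) (s := 3) (by norm_num) (by norm_num) (by norm_num) (by norm_num) (by norm_num)
    · exact nc_p_11 (by norm_num) (by norm_num) (by norm_num)
    · exact (nc_19 (Or.inr rfl)).symm

/-- **The row of `HN`** -/
theorem row_hn {G : Type*} [Group G] [Finite G] [IsSimpleGroup G] (h : Spor.IsoHN G) : Row G := by
  have hN := NotCT.Orders.hn h
  refine row_of (N := 273030912000000) (k := 14) hN [3, 5, 7, 11, 19] [3, 5] [19] 7 [] ?_ ?_ ?_ ?_ ?_ ?_ ?_ ?_
  · decide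
  · norm_num
  · decide
  · exact ab_of_not_cube (by norm_num) (by rw [hN]; norm_num)
  · obtain ⟨e⟩ := h
    exact fun p hp q hq hpq => (nc_all p hp q hq hpq).congr e.symm
  · intro r hr
    obtain rfl := List.mem_singleton.1 hr
    exact solv_of_na (by norm_num) (by rw [hN]; norm_num) (na_hn h)
  · intro a ha; exact absurd ha (by simp)
  · decide

end Cfsg.Agent.H443.NHHN
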